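import Cfsg.Agent.Lib.Components.Basic
import Cfsg.Agent.Lib.CoprimeHHS.Basic
import Cfsg.Agent.Lib.PLocal.FixedPointFree

/-!
A quasisimple subgroup `K` of the layer of a finite group with a coprime automorphism `s` of prime
order that moves `K`, all distinct conjugates of `K` under powers of `s` and under fixed points of
`s` commuting with `K`: then `K` is a component or lies in an invariant component.
-/

set_option autoImplicit false

namespace Cfsg.Agent.LocalTrichotomy

open Subgroup Cfsg.Agent.CoprimeHHS Cfsg.Agent.Components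
open scoped commutatorElement

variable {G : Type*} [Group G]

/-- The image of a subgroup under conjugation. -/
abbrev cj (c : G) (K : Subgroup G) : Subgroup G := K.map (MulAut.conj c).toMonoidHom

theorem mem_cj {c x : G} {K : Subgroup G} (hx : x ∈ K) : c * x * c⁻¹ ∈ cj c K :=
  ⟨x, hx, rfl⟩

theorem mem_normalizer_of_cj {c : G} {K : Subgroup G} (h : cj c K = K) :
    c ∈ normalizer (K : Set G) := by
  rw [mem_normalizer_iff]
  intro x
  refine ⟨fun hx => h ▸ mem_cj hx, fun hx => ?_⟩
  obtain ⟨y, hy, hyx⟩ : c * x * c⁻¹ ∈ cj c K := h.symm ▸ hx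
  rwa [← (MulAut.conj c).injective (a₁ := y) (a₂ := x) hyx]

theorem conj_mem_centralizer {L : Subgroup G} {a x : G} (ha : a ∈ normalizer (L : Set G))
    (hx : x ∈ centralizer (L : Set G)) : a * x * a⁻¹ ∈ centralizer (L : Set G) := by
  rw [mem_centralizer_iff] at hx ⊢
  intro y hy
  have h := hx (a⁻¹ * y * a) ((mem_normalizer_iff''.1 ha y).1 hy)
  calc y * (a * x * a⁻¹) = a * ((a⁻¹ * y * a) * x) * a⁻¹ := by group
    _ = a * (x * (a⁻¹ * y * a)) * a⁻¹ := by rw [h]
    _ = a * x * a⁻¹ * y := by group

theorem comm_mem_centralizer {L : Subgroup G} {a x : G} (ha : a ∈ normalizer (L : Set G))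
    (hx : x ∈ centralizer (L : Set G)) :
    ⁅x, a⁆ ∈ centralizer (L : Set G) ∧ ⁅a, x⁆ ∈ centralizer (L : Set G) := by
  have h : ⁅a, x⁆ ∈ centralizer (L : Set G) := by
    rw [commutatorElement_def]
    exact mul_mem (conj_mem_centralizer ha hx) (inv_mem hx)
  refine ⟨?_, h⟩
  rw [← commutatorElement_inv]
  exact inv_mem h

/-- An element inducing central displacements on a perfect subgroup centralises it. -/
theorem mem_centralizer_of_perfect {L : Subgroup G} (hp : ⁅L, L⁆ = L) {x : G}
    (hn : x ∈ normalizer (L : Set G)) (h : ∀ a ∈ L, ⁅x, a⁆ ∈ centralizer (L : Set G)) :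
    x ∈ centralizer (L : Set G) := by
  have key : ⁅L, L⁆ ≤ centralizer ({x} : Set G) := by
    refine commutator_le.2 fun a ha b hb => mem_centralizer_singleton_iff.2 ?_
    obtain ⟨z, hz, hxa⟩ : ∃ z, z ∈ centralizer (L : Set G) ∧ x * a * x⁻¹ = z * a :=
      ⟨⁅x, a⁆, h a ha, by rw [commutatorElement_def]; group⟩
    obtain ⟨w, hw, hwL, hxb⟩ :
        ∃ w, w ∈ centralizer (L : Set G) ∧ w ∈ L ∧ x * b * x⁻¹ = w * b :=
      ⟨⁅x, b⁆, h b hb, by
        rw [commutatorElement_def]
        exact mul_mem ((mem_normalizer_iff.1 hn b).1 hb) (inv_mem hb),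
        by rw [commutatorElement_def]; group⟩
    rw [mem_centralizer_iff] at hz hw
    have hab : ⁅a, b⁆ ∈ L := by
      rw [commutatorElement_def]
      exact mul_mem (mul_mem (mul_mem ha hb) (inv_mem ha)) (inv_mem hb)
    have c1 : a * w = w * a := hw a ha
    have c2 : b * z = z * b := hz b hb
    have c3 : w * z = z * w := hz w hwL
    have k1 : x * ⁅a, b⁆ * x⁻¹ = ⁅a, b⁆ := by
      calc x * ⁅a, b⁆ * x⁻¹ = ⁅x * a * x⁻¹, x * b * x⁻¹⁆ := by
            simp only [commutatorElement_def]; group
        _ = ⁅z * a, w * b⁆ := by rw [hxa, hxb]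
        _ = z * (a * w) * (b * a⁻¹) * z⁻¹ * b⁻¹ * w⁻¹ := by
            simp only [commutatorElement_def]; group
        _ = z * w * (a * b * a⁻¹ * b⁻¹) * (b * z⁻¹ * b⁻¹) * w⁻¹ := by rw [c1]; group
        _ = z * w * ⁅a, b⁆ * z⁻¹ * w⁻¹ := by
            rw [show b * z⁻¹ * b⁻¹ = z⁻¹ by
              have : b * z⁻¹ = z⁻¹ * b := Commute.inv_right c2
              rw [this, mul_inv_cancel_right], ← commutatorElement_def]
        _ = ⁅a, b⁆ * (z * w) * z⁻¹ * w⁻¹ := by
            rw [mul_assoc z w, ← hw _ hab, ← mul_assoc z, ← hz _ hab, mul_assoc ⁅a, b⁆]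
        _ = ⁅a, b⁆ := by rw [← c3]; group
    exact (mul_inv_eq_iff_eq_mul.1 k1).symm
  rw [mem_centralizer_iff]
  intro y hy
  rw [hp] at key
  exact (mem_centralizer_singleton_iff.1 (key hy))

/-- A product over an orbit: if `l` commutes with its images `(s ^ i) l`, `0 < i < r`, then `l` times
their product is fixed by `s`. -/
theorem exists_fixed_mul {s : MulAut G} {r : ℕ} (hr : 0 < r) (hs : s ^ r = 1) {l : G}
    (W : Subgroup G) (hW : ∀ i, 0 < i → i < r → (s ^ i) l ∈ W)
    (hcomm : ∀ w ∈ W, l * w = w * l) : ∃ q ∈ W, s (l * q) = l * q := by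
  obtain ⟨n, rfl⟩ := Nat.exists_eq_add_of_le' hr
  set f : ℕ → G := fun i => (s ^ i) l with hf
  refine ⟨((List.range n).map fun i => f (i + 1)).prod, ?_, ?_⟩
  · refine list_prod_mem fun x hx => ?_
    obtain ⟨i, hi, rfl⟩ := List.mem_map.1 hx
    exact hW _ (Nat.succ_pos i) (Nat.succ_lt_succ (List.mem_range.1 hi))
  set q : G := ((List.range n).map fun i => f (i + 1)).prod with hq
  have hqW : q ∈ W := list_prod_mem fun x hx => by
    obtain ⟨i, hi, rfl⟩ := List.mem_map.1 hx
    exact hW _ (Nat.succ_pos i) (Nat.succ_lt_succ (List.mem_range.1 hi))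
  have e0 : l * q = ((List.range (n + 1)).map f).prod := by
    rw [List.prod_range_succ', hq]
    rfl
  have e1 : s (l * q) = ((List.range (n + 1)).map fun i => f (i + 1)).prod := by
    rw [e0, map_list_prod, List.map_map]
    refine congrArg List.prod (List.map_congr_left fun i _ => ?_)
    simp [hf, pow_succ', MulAut.mul_apply]
  rw [e1, List.prod_range_succ, hcomm q hqW, hq]
  simp [hf, hs]

variable [Finite G]

theorem inv_of_pow {s : MulAut G} {r : ℕ} (h : Cop r s) {H : Subgroup G} {i : ℕ} (hi : ¬ r ∣ i)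
    (hH : Inv (s ^ i) H) : Inv s H := by
  obtain ⟨a, ha⟩ := exists_pow_eq_self_of_coprime (x := s) (Nat.Coprime.coprime_dvd_right
    h.pow_orderOf_dvd (Nat.coprime_comm.1 (h.prime.coprime_iff_not_dvd.2 hi)))
  rw [← ha]
  exact hH.pow a

theorem normalizer_le_normalizer_centralizer (L : Subgroup G) :
    normalizer (L : Set G) ≤ normalizer ((centralizer (L : Set G) : Subgroup G) : Set G) :=
  fun a ha => mem_normalizer_iff.2 fun x => ⟨fun hx => conj_mem_centralizer ha hx, fun hx => by
    have := conj_mem_centralizer (inv_mem ha) hx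
    simpa [mul_assoc] using this⟩

theorem inv_of_map_eq {s : MulAut G} {H : Subgroup G} (h : H.map s.toMonoidHom = H) : Inv s H :=
  fun x hx => h ▸ ⟨x, hx, rfl⟩

/-- An automorphism respects centralisers. -/
theorem apply_mem_centralizer {s : MulAut G} {L : Subgroup G} {x : G}
    (hx : x ∈ centralizer (L : Set G)) :
    s x ∈ centralizer ((L.map s.toMonoidHom : Subgroup G) : Set G) := by
  rw [mem_centralizer_iff] at hx ⊢
  rintro _ ⟨y, hy, rfl⟩
  show s y * s x = s x * s y
  rw [← map_mul, ← map_mul, hx y hy]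

theorem map_pow_pow {s : MulAut G} {H : Subgroup G} (i j : ℕ) :
    (H.map (s ^ i).toMonoidHom).map (s ^ j).toMonoidHom = H.map (s ^ (j + i)).toMonoidHom := by
  rw [Subgroup.map_map, pow_add]
  rfl

section setting

variable {K L : Subgroup G} (hK : IsQuasisimple ↥K) (hKE : K ≤ layer G) (hL : IsComponent L)
  (hKL : ¬ K ≤ centralizer (L : Set G))

include hK hKE hL hKL

theorem not_comm_le : ¬ ∀ a ∈ K, ∀ b ∈ K, ⁅a, b⁆ ∈ centralizer (L : Set G) := fun h =>
  hKL (quasisimple_commutator_eq hK ▸ commutator_le.2 h)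

theorem inter_central {a : G} (ha : a ∈ K) (haL : a ∈ centralizer (L : Set G)) :
    a ∈ centralizer (K : Set G) := by
  have hN : ((centralizer (L : Set G)).subgroupOf K).Normal := ⟨fun n hn g =>
    mem_subgroupOf.2 (conj_mem_centralizer
      (layer_le_normalizer_component hL (hKE g.2)) (mem_subgroupOf.1 hn))⟩
  haveI := hN
  rcases quasisimple_normal hK ((centralizer (L : Set G)).subgroupOf K) with e | e
  · exact absurd (subgroupOf_eq_top.1 e) hKL
  · rw [mem_centralizer_iff]
    intro b hb
    exact congrArg Subtype.val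
      (mem_center_iff.1 (e (show (⟨a, ha⟩ : K) ∈ (centralizer (L : Set G)).subgroupOf K from haL))
        ⟨b, hb⟩)

theorem mem_centralizer_K {y : G} (hy : y ∈ normalizer (K : Set G))
    (h : ∀ a ∈ K, ⁅y, a⁆ ∈ centralizer (L : Set G)) : y ∈ centralizer (K : Set G) := by
  refine mem_centralizer_of_perfect (quasisimple_commutator_eq hK) hy fun a ha => ?_
  refine inter_central hK hKE hL hKL ?_ (h a ha)
  rw [commutatorElement_def]
  exact mul_mem ((mem_normalizer_iff.1 hy a).1 ha) (inv_mem ha)

/-- `[K, L] = L`. -/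
theorem commutator_eq_component : ⁅K, L⁆ = L := by
  have hn : K ≤ normalizer (L : Set G) := hKE.trans (layer_le_normalizer_component hL)
  have hle : ⁅K, L⁆ ≤ L := by rw [commutator_comm]; exact commutator_le_of_le_normalizer hn
  have hN : (⁅K, L⁆.subgroupOf L).Normal :=
    (normal_subgroupOf_iff_le_normalizer hle).2 (normalizer_commutator_ge_right K L)
  haveI := hN
  rcases quasisimple_normal hL.2 (⁅K, L⁆.subgroupOf L) with e | e
  · exact le_antisymm hle (subgroupOf_eq_top.1 e)
  · exfalso
    refine hKL fun k hk => mem_centralizer_of_perfect (component_commutator_eq hL) (hn hk)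
      fun l hl => ?_
    have hm : ⁅k, l⁆ ∈ ⁅K, L⁆ := commutator_mem_commutator hk hl
    rw [mem_centralizer_iff]
    intro b hb
    exact congrArg Subtype.val (mem_center_iff.1
      (e (show (⟨⁅k, l⁆, hle hm⟩ : L) ∈ ⁅K, L⁆.subgroupOf L from hm)) ⟨b, hb⟩)

/-- An element of the layer that centralises `K` centralises `L`, once `L ≤ K C_E(L)`. -/
theorem centralises_of_full (hfull : L ≤ K ⊔ (layer G ⊓ centralizer (L : Set G))) {x : G}
    (hxE : x ∈ layer G) (hxK : x ∈ centralizer (K : Set G)) : x ∈ centralizer (L : Set G) := by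
  have hxL := layer_le_normalizer_component hL hxE
  refine mem_centralizer_of_perfect (component_commutator_eq hL) hxL fun l hl => ?_
  have key : ∀ y ∈ K ⊔ (layer G ⊓ centralizer (L : Set G)),
      y ∈ layer G ∧ ⁅x, y⁆ ∈ centralizer (L : Set G) := by
    intro y hy
    rw [sup_eq_closure] at hy
    induction hy using closure_induction with
    | mem y hy =>
      rcases hy with hy | hy
      · refine ⟨hKE hy, ?_⟩
        rw [commutatorElement_eq_one_iff_mul_comm.2 ((mem_centralizer_iff.1 hxK y hy).symm)]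
        exact one_mem _
      · exact ⟨hy.1, (comm_mem_centralizer hxL hy.2).2⟩
    | one => exact ⟨one_mem _, by simp⟩
    | mul a b _ _ iha ihb =>
      refine ⟨mul_mem iha.1 ihb.1, ?_⟩
      rw [show ⁅x, a * b⁆ = ⁅x, a⁆ * (a * ⁅x, b⁆ * a⁻¹) by
        simp only [commutatorElement_def]; group]
      exact mul_mem iha.2 (conj_mem_centralizer (layer_le_normalizer_component hL iha.1) ihb.2)
    | inv a _ iha =>
      refine ⟨inv_mem iha.1, ?_⟩
      rw [show ⁅x, a⁻¹⁆ = a⁻¹ * ⁅x, a⁆⁻¹ * a⁻¹⁻¹ by simp only [commutatorElement_def]; group]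
      exact conj_mem_centralizer (layer_le_normalizer_component hL (inv_mem iha.1))
        (inv_mem iha.2)
  exact (key l (hfull hl)).2

/-- The case of a component covered by fixed elements: `K` projects onto it, and the fixed
elements of the layer normalise `K`. -/
theorem full_of_cover {s : MulAut G}
    (hc : ∀ c, s c = c → cj c K ≠ K → ∀ a ∈ K, ∀ b ∈ cj c K, a * b = b * a)
    (hcov : ∀ l ∈ L, ∃ d, s d = d ∧ d ∈ layer G ∧ d⁻¹ * l ∈ centralizer (L : Set G)) :
    L ≤ K ⊔ (layer G ⊓ centralizer (L : Set G)) ∧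
      ∀ d, s d = d → d ∈ layer G → cj d K = K := by
  set N := layer G ⊓ centralizer (L : Set G) with hN
  set Q := K ⊔ N with hQ
  have hEN : layer G ≤ normalizer (N : Set G) := fun e he => by
    rw [mem_normalizer_iff]
    refine fun y => ⟨fun hy => mem_inf.2 ⟨mul_mem (mul_mem he (mem_inf.1 hy).1) (inv_mem he),
      conj_mem_centralizer (layer_le_normalizer_component hL he) hy.2⟩, fun hy => ?_⟩
    have h1 := mul_mem (mul_mem (inv_mem he) (mem_inf.1 hy).1) (inv_mem (inv_mem he))
    have h2 := conj_mem_centralizer (layer_le_normalizer_component hL (inv_mem he)) hy.2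
    simp only [mul_assoc, inv_mul_cancel_left, inv_mul_cancel, inv_inv, mul_one] at h1 h2
    exact ⟨h1, h2⟩
  have hQE : Q ≤ layer G := sup_le hKE inf_le_left
  have hV : ∀ d, s d = d → d ∈ layer G → ∀ b ∈ cj d K, b ∈ normalizer (Q : Set G) := by
    intro d hd hdE b hb
    by_cases e : cj d K = K
    · rw [e] at hb
      exact le_normalizer (mem_sup_left hb)
    have hbK : b ∈ centralizer (K : Set G) := mem_centralizer_iff.2 fun a ha => hc d hd e a ha b hb
    obtain ⟨b', hb', rfl⟩ := hb
    exact normalizer_inf_normalizer_le_normalizer_sup K N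
      ⟨centralizer_le_normalizer _ hbK,
        hEN (mul_mem (mul_mem hdE (hKE hb')) (inv_mem hdE))⟩
  have hLV : L ≤ normalizer (Q : Set G) := by
    conv_lhs => rw [← commutator_eq_component hK hKE hL hKL]
    refine commutator_le.2 fun k hk l hl => ?_
    obtain ⟨d, hd, hdE, hn⟩ := hcov l hl
    rw [show ⁅k, l⁆ = k * ((d * (d⁻¹ * l) * d⁻¹) * (d * k⁻¹ * d⁻¹) * (d * (d⁻¹ * l) * d⁻¹)⁻¹) by
      simp only [commutatorElement_def]; group]
    have hnN : d * (d⁻¹ * l) * d⁻¹ ∈ normalizer (Q : Set G) := le_normalizer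
      (mem_sup_right ((mem_normalizer_iff.1 (hEN hdE) _).1
        (mem_inf.2 ⟨mul_mem (inv_mem hdE) (component_le_layer hL hl), hn⟩)))
    exact mul_mem (le_normalizer (mem_sup_left hk))
      (mul_mem (mul_mem hnN (hV d hd hdE _ (mem_cj (inv_mem hk)))) (inv_mem hnN))
  have hLQ : L ≤ Q := by
    conv_lhs => rw [← commutator_eq_component hK hKE hL hKL]
    refine commutator_le.2 fun k hk l hl => ?_
    rw [show ⁅k, l⁆ = k * (l * k⁻¹ * l⁻¹) by simp only [commutatorElement_def]; group]
    exact mul_mem (mem_sup_left hk)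
      ((mem_normalizer_iff.1 (hLV hl) _).1 (mem_sup_left (inv_mem hk)))
  refine ⟨hLQ, fun d hd hdE => ?_⟩
  by_contra e
  apply hKL
  intro k hk
  have h1 : d * k * d⁻¹ ∈ centralizer (L : Set G) :=
    centralises_of_full hK hKE hL hKL hLQ (mul_mem (mul_mem hdE (hKE hk)) (inv_mem hdE))
      (mem_centralizer_iff.2 fun a ha => hc d hd e a ha _ (mem_cj hk))
  have h2 := conj_mem_centralizer (layer_le_normalizer_component hL (inv_mem hdE)) h1
  simp only [mul_assoc, inv_mul_cancel_left, inv_mul_cancel, inv_inv, mul_one] at h2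
  exact h2

end setting

section automorphism

variable {r : ℕ} {s : MulAut G} (h : Cop r s)

include h

/-- An element of the layer fixed by `s` agrees modulo `C(L)` with a fixed element of `L`,
for an invariant component `L`. -/
theorem exists_fixed_in_component {L : Subgroup G} (hL : IsComponent L) (hLi : Inv s L)
    {p : G} (hpE : p ∈ layer G) (hp : s p = p) :
    ∃ c ∈ L, s c = c ∧ c⁻¹ * p ∈ centralizer (L : Set G) := by
  have hE : p ∈ L ⊔ centralizer (L : Set G) := by
    refine (layer_le_iff.2 fun M hM => ?_) hpE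
    by_cases e : M = L
    · exact e.le.trans le_sup_left
    · exact (commutator_eq_bot_iff_le_centralizer.1 (components_commute hM hL e)).trans le_sup_right
  have hn : centralizer (L : Set G) ≤ normalizer (L : Set G) := centralizer_le_normalizer _
  rw [← SetLike.mem_coe, coe_mul_of_right_le_normalizer_left L _ hn] at hE
  obtain ⟨l, hl, n, hnC, rfl⟩ := hE
  simp only at hp
  have hsn : s n ∈ centralizer (L : Set G) := hLi.centralizer n hnC
  have hfix : l⁻¹ * s l ∈ L ⊓ centralizer (L : Set G) := by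
    refine mem_inf.2 ⟨mul_mem (inv_mem hl) (hLi l hl), ?_⟩
    rw [map_mul] at hp
    have : l⁻¹ * s l = n * (s n)⁻¹ := by
      have h2 : s l = l * n * (s n)⁻¹ := eq_mul_inv_of_mul_eq hp
      rw [h2, mul_assoc l, inv_mul_cancel_left]
    rw [this]
    exact mul_mem hnC (inv_mem hsn)
  obtain ⟨c, hc, hcs, hlc⟩ := h.exists_fixed hLi (hLi.inf hLi.centralizer) inf_le_left
    (fun a ha => inf_normalizer_le_normalizer_inf ⟨le_normalizer ha,
      normalizer_le_normalizer_centralizer L (le_normalizer ha)⟩) hl hfix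
  refine ⟨c, hc, hcs, ?_⟩
  rw [show c⁻¹ * (l * n) = (l⁻¹ * c)⁻¹ * n by group]
  exact mul_mem (inv_mem (mem_inf.1 hlc).2) hnC

variable {K : Subgroup G} (hK : IsQuasisimple ↥K) (hKE : K ≤ layer G) (hKs : ¬ K ≤ fixed s)
  (hs : ∀ i : ℕ, K.map (s ^ i).toMonoidHom ≠ K →
    ∀ a ∈ K, ∀ b ∈ K.map (s ^ i).toMonoidHom, a * b = b * a)
  (hc : ∀ c, s c = c → cj c K ≠ K → ∀ a ∈ K, ∀ b ∈ cj c K, a * b = b * a)

include hK hKE hKs hs hc

theorem pow_moves (hKi : ¬ Inv s K) {i : ℕ} (hi : ¬ r ∣ i) :
    K.map (s ^ i).toMonoidHom ≠ K := fun e => hKi (inv_of_pow h hi (inv_of_map_eq e))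

/-- A moved component not centralised by `K` makes `K` a component. -/
theorem component_of_moved {L : Subgroup G} (hL : IsComponent L)
    (hKL : ¬ K ≤ centralizer (L : Set G)) (hLs : ¬ Inv s L) : IsComponent K := by
  haveI := Fact.mk h.prime
  have hcomp : ∀ i : ℕ, IsComponent (L.map (s ^ i).toMonoidHom) :=
    fun i => component_map_equiv (s ^ i) hL
  have hndvd : ∀ {i}, 0 < i → i < r → ¬ r ∣ i := fun h0 hlt hd =>
    absurd (Nat.le_of_dvd h0 hd) (not_le.2 hlt)
  have hne : ∀ {i}, 0 < i → i < r → L.map (s ^ i).toMonoidHom ≠ L := fun h0 hlt e =>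
    hLs (inv_of_pow h (hndvd h0 hlt) (inv_of_map_eq e))
  -- the fixed element over `l`
  have hd : ∀ l ∈ L, ∃ q, s (l * q) = l * q ∧ l * q ∈ layer G ∧
      q ∈ ⨆ i : {i : ℕ // 0 < i ∧ i < r}, L.map (s ^ (i : ℕ)).toMonoidHom := by
    intro l hl
    obtain ⟨q, hq, hfix⟩ := exists_fixed_mul h.prime.pos h.pow_eq (l := l)
      (⨆ i : {i : ℕ // 0 < i ∧ i < r}, L.map (s ^ (i : ℕ)).toMonoidHom)
      (fun i h0 hlt => mem_iSup_of_mem (⟨i, h0, hlt⟩ : {i : ℕ // 0 < i ∧ i < r}) ⟨l, hl, rfl⟩)
      (fun w hw => mem_centralizer_iff.1 ((iSup_le fun (i : {i : ℕ // 0 < i ∧ i < r}) =>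
        commutator_eq_bot_iff_le_centralizer.1
          (components_commute (hcomp i) hL (hne i.2.1 i.2.2))) hw) l hl)
    exact ⟨q, hfix, mul_mem (component_le_layer hL hl)
      ((iSup_le fun (i : {i : ℕ // 0 < i ∧ i < r}) => component_le_layer (hcomp i)) hq), hq⟩
  have hrest : ∀ (H : Subgroup G),
      (∀ i : {i : ℕ // 0 < i ∧ i < r}, L.map (s ^ (i : ℕ)).toMonoidHom ≤ H) →
      ∀ {q}, q ∈ ⨆ i : {i : ℕ // 0 < i ∧ i < r}, L.map (s ^ (i : ℕ)).toMonoidHom → q ∈ H :=
    fun H hH q hq => iSup_le hH hq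
  have hqC : ∀ {q}, q ∈ ⨆ i : {i : ℕ // 0 < i ∧ i < r}, L.map (s ^ (i : ℕ)).toMonoidHom →
      q ∈ centralizer (L : Set G) := fun hq => (iSup_le fun (i : {i : ℕ // 0 < i ∧ i < r}) =>
        commutator_eq_bot_iff_le_centralizer.1
          (components_commute (hcomp i) hL (hne i.2.1 i.2.2))) hq
  have hcov : ∀ l ∈ L, ∃ d, s d = d ∧ d ∈ layer G ∧ d⁻¹ * l ∈ centralizer (L : Set G) := by
    intro l hl
    obtain ⟨q, hfix, hE, hq⟩ := hd l hl
    refine ⟨l * q, hfix, hE, ?_⟩
    rw [show (l * q)⁻¹ * l = q⁻¹ by group]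
    exact inv_mem (hqC hq)
  obtain ⟨hfull, hnorm⟩ := full_of_cover hK hKE hL hKL hc hcov
  -- only components of the orbit of `L` can be moved by `K`
  have houter : ∀ M, IsComponent M → ¬ K ≤ centralizer (M : Set G) →
      ∃ i < r, M = L.map (s ^ i).toMonoidHom := by
    intro M hM hKM
    by_contra hno
    apply hKL
    intro a ha
    refine mem_centralizer_of_perfect (component_commutator_eq hL)
      (layer_le_normalizer_component hL (hKE ha)) fun l hl => ?_
    obtain ⟨q, hfix, hE, hq⟩ := hd l hl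
    have hML : M ≠ L := fun e => hno ⟨0, h.prime.pos, by
      rw [e, pow_zero]; exact (Subgroup.map_id L).symm⟩
    have hdM : l * q ∈ centralizer (M : Set G) := by
      refine mul_mem (commutator_eq_bot_iff_le_centralizer.1
        (components_commute hL hM (Ne.symm hML)) hl) (hrest _ (fun i => ?_) hq)
      exact commutator_eq_bot_iff_le_centralizer.1
        (components_commute (hcomp i) hM fun e => hno ⟨i, i.2.2, e.symm⟩)
    have hdK : l * q ∈ centralizer (K : Set G) :=
      mem_centralizer_K hK hKE hM hKM (mem_normalizer_of_cj (hnorm _ hfix hE)) fun b hb =>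
        (comm_mem_centralizer (layer_le_normalizer_component hM (hKE hb)) hdM).1
    rw [show ⁅a, l⁆ = ⁅a, l * q⁆ * ((l * q) * ⁅a, q⁻¹⁆ * (l * q)⁻¹) by
        simp only [commutatorElement_def]; group,
      commutatorElement_eq_one_iff_mul_comm.2 (mem_centralizer_iff.1 hdK a ha), one_mul]
    exact conj_mem_centralizer (layer_le_normalizer_component hL hE)
      (comm_mem_centralizer (layer_le_normalizer_component hL (hKE ha)) (inv_mem (hqC hq))).2
  by_cases hKi : Inv s K
  · -- `s` normalises `K`: then it centralises it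
    exfalso
    have hKpow : ∀ i, K.map (s ^ i).toMonoidHom = K := fun i => (hKi.pow i).map_eq
    have hfixK : ∀ a ∈ K, (s a)⁻¹ * a ∈ centralizer (K : Set G) := by
      intro a ha
      have hE : a ∈ L ⊔ centralizer (L : Set G) := by
        refine (layer_le_iff.2 fun M hM => ?_) (hKE ha)
        by_cases e : M = L
        · exact e.le.trans le_sup_left
        · exact (commutator_eq_bot_iff_le_centralizer.1
            (components_commute hM hL e)).trans le_sup_right
      rw [← SetLike.mem_coe,
        coe_mul_of_right_le_normalizer_left L _ (centralizer_le_normalizer _)] at hE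
      obtain ⟨l, hl, n, hn, hln⟩ := hE
      simp only at hln
      obtain ⟨q, hfix, hdE, hq⟩ := hd l hl
      set y := a⁻¹ * (l * q) with hy
      have hyE : y ∈ layer G := mul_mem (inv_mem (hKE ha)) hdE
      have hyL : y ∈ centralizer (L : Set G) := by
        rw [hy, ← hln, show (l * n)⁻¹ * (l * q) = n⁻¹ * q by group]
        exact mul_mem (inv_mem hn) (hqC hq)
      have hyK : y ∈ centralizer (K : Set G) := by
        refine mem_centralizer_K hK hKE hL hKL
          (mul_mem (le_normalizer (inv_mem ha)) (mem_normalizer_of_cj (hnorm _ hfix hdE)))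
          fun b hb => ?_
        exact (comm_mem_centralizer (layer_le_normalizer_component hL (hKE hb)) hyL).1
      have hyall : ∀ M : Subgroup G, IsComponent M → y ∈ centralizer (M : Set G) := by
        intro M hM
        by_cases hML : ∃ i < r, M = L.map (s ^ i).toMonoidHom
        · obtain ⟨i, hi, rfl⟩ := hML
          rcases Nat.eq_zero_or_pos i with rfl | hi0
          · rw [pow_zero]
            convert hyL using 3
            exact Subgroup.map_id L
          have hKM : ¬ K ≤ centralizer ((L.map (s ^ i).toMonoidHom : Subgroup G) : Set G) := by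
            intro hle
            apply hKL
            intro b hb
            have hm : (s ^ i) b ∈ K.map (s ^ i).toMonoidHom := ⟨b, hb, rfl⟩
            rw [hKpow i] at hm
            have hb' := hle hm
            rw [mem_centralizer_iff] at hb' ⊢
            intro c hc'
            apply (s ^ i).injective
            rw [map_mul, map_mul]
            exact hb' _ ⟨c, hc', rfl⟩
          refine centralises_of_full hK hKE hM hKM ?_ hyE hyK
          refine (full_of_cover hK hKE hM hKM hc ?_).1
          rintro _ ⟨c, hc', rfl⟩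
          obtain ⟨d, hds, hdE', hdc⟩ := hcov c hc'
          refine ⟨d, hds, hdE', ?_⟩
          have hdi : (s ^ i) d = d := by
            clear hi hi0 hM hKM
            induction i with
            | zero => rfl
            | succ j ih => rw [pow_succ, MulAut.mul_apply, hds, ih]
          have := apply_mem_centralizer (s := s ^ i) hdc
          rwa [map_mul, map_inv, hdi] at this
        · have hKM : K ≤ centralizer (M : Set G) := by
            by_contra e
            exact hML (houter M hM e)
          refine mul_mem (inv_mem (hKM ha)) (mul_mem ?_ (hrest _ (fun i => ?_) hq))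
          · refine commutator_eq_bot_iff_le_centralizer.1 (components_commute hL hM ?_) hl
            exact fun e => hML ⟨0, h.prime.pos, by rw [← e, pow_zero]; exact (Subgroup.map_id L).symm⟩
          · exact commutator_eq_bot_iff_le_centralizer.1
              (components_commute (hcomp i) hM fun e => hML ⟨i, i.2.2, e.symm⟩)
      have hE' : ∀ z, (∀ M : Subgroup G, IsComponent M → z ∈ centralizer (M : Set G)) →
          z ∈ centralizer (layer G : Set G) := fun z hz => mem_centralizer_iff.2 fun x hx => by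
        have : layer G ≤ centralizer ({z} : Set G) := layer_le_iff.2 fun M hM m hm =>
          mem_centralizer_singleton_iff.2 (mem_centralizer_iff.1 (hz M hM) m hm)
        exact mem_centralizer_singleton_iff.1 (this hx)
      have hyC := hE' y hyall
      have hEi : Inv s (layer G) := inv_of_map_eq (layer_map_equiv s)
      have hsy : s y * y⁻¹ ∈ centralizer (layer G : Set G) :=
        mul_mem (hEi.centralizer y hyC) (inv_mem hyC)
      rw [hy, map_mul, map_inv, hfix,
        show (s a)⁻¹ * (l * q) * (a⁻¹ * (l * q))⁻¹ = (s a)⁻¹ * a by group] at hsy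
      exact centralizer_le hKE hsy
    apply hKs
    rw [← quasisimple_commutator_eq hK]
    refine commutator_le.2 fun a ha b hb => ?_
    have e : ∀ c ∈ K, ∃ z ∈ K, z ∈ centralizer (K : Set G) ∧ s c = c * z := fun c hc' => by
      refine ⟨c⁻¹ * s c, mul_mem (inv_mem hc') (hKi c hc'), ?_, by group⟩
      rw [show c⁻¹ * s c = ((s c)⁻¹ * c)⁻¹ by group]
      exact inv_mem (hfixK c hc')
    obtain ⟨z, hzK, hz, hza⟩ := e a ha
    obtain ⟨w, hwK, hw, hwb⟩ := e b hb
    rw [mem_fixed, map_commutatorElement, hza, hwb]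
    rw [mem_centralizer_iff] at hz hw
    calc ⁅a * z, b * w⁆ = a * (z * b) * w * z⁻¹ * a⁻¹ * w⁻¹ * b⁻¹ := by
          simp only [commutatorElement_def]; group
      _ = a * b * (z * w) * z⁻¹ * a⁻¹ * w⁻¹ * b⁻¹ := by rw [← hz b hb]; group
      _ = a * b * w * (a⁻¹ * w⁻¹) * b⁻¹ := by rw [← hz w hwK]; group
      _ = a * b * a⁻¹ * (a * w * a⁻¹) * w⁻¹ * b⁻¹ := by group
      _ = a * b * a⁻¹ * (w * a * a⁻¹) * w⁻¹ * b⁻¹ := by rw [hw a ha]
      _ = ⁅a, b⁆ := by simp only [commutatorElement_def]; group
  · -- `s` moves `K`: `K` centralises every other component, and `L` normalises it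
    have hKother : ∀ i, 0 < i → i < r →
        K ≤ centralizer ((L.map (s ^ i).toMonoidHom : Subgroup G) : Set G) := by
      intro i h0 hlt b hb
      have hne' := pow_moves h hK hKE hKs hs hc hKi (i := r - i)
        (hndvd (Nat.sub_pos_of_lt hlt) (Nat.sub_lt h.prime.pos h0))
      have hbL : (s ^ (r - i)) b ∈ centralizer (L : Set G) :=
        centralises_of_full hK hKE hL hKL hfull
          ((inv_of_map_eq (layer_map_equiv s)).pow (r - i) b (hKE hb))
          (mem_centralizer_iff.2 fun a ha => hs _ hne' a ha _ ⟨b, hb, rfl⟩)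
      have := apply_mem_centralizer (s := s ^ i) hbL
      rwa [← MulAut.mul_apply, ← pow_add, Nat.add_sub_cancel' hlt.le, h.pow_eq,
        MulAut.one_apply] at this
    have hE : layer G ≤ normalizer (K : Set G) := by
      refine layer_le_iff.2 fun M hM => ?_
      by_cases hKM : K ≤ centralizer (M : Set G)
      · exact (le_centralizer_iff.1 hKM).trans (centralizer_le_normalizer _)
      obtain ⟨i, hi, rfl⟩ := houter M hM hKM
      rcases Nat.eq_zero_or_pos i with rfl | hi0
      · intro x hx
        obtain ⟨l, hl, rfl⟩ := hx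
        show l ∈ _
        obtain ⟨q, hfix, hE, hq⟩ := hd l hl
        rw [show l = l * q * q⁻¹ by group]
        refine mul_mem (mem_normalizer_of_cj (hnorm _ hfix hE))
          (inv_mem (centralizer_le_normalizer _ (hrest _ (fun j => ?_) hq)))
        exact le_centralizer_iff.1 (hKother j j.2.1 j.2.2)
      · exact absurd (hKother i hi0 hi) hKM
    exact ⟨(IsSubnormal.step K (layer G) hKE layer_normal.isSubnormal
      ((normal_subgroupOf_iff_le_normalizer hKE).2 hE)), hK⟩

/-- Two invariant components cannot both be moved by `K`. -/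
theorem unique_invariant {L M : Subgroup G} (hL : IsComponent L) (hM : IsComponent M)
    (hKL : ¬ K ≤ centralizer (L : Set G)) (hKM : ¬ K ≤ centralizer (M : Set G))
    (hLi : Inv s L) : L = M := by
  haveI := Fact.mk h.prime
  by_contra hne
  have hcK : ∀ c ∈ L, s c = c → c ∈ centralizer (K : Set G) := by
    intro c hcL hcs
    have hcM : c ∈ centralizer (M : Set G) :=
      commutator_eq_bot_iff_le_centralizer.1 (components_commute hL hM hne) hcL
    have hdisp : ∀ b ∈ K, ⁅c, b⁆ ∈ centralizer (M : Set G) := fun b hb =>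
      (comm_mem_centralizer (layer_le_normalizer_component hM (hKE hb)) hcM).1
    have hcn : cj c K = K := by
      by_contra e
      refine not_comm_le hK hKE hM hKM fun a ha b hb => ?_
      have h1 := hc c hcs e a ha _ (mem_cj hb)
      rw [show ⁅a, b⁆ = (a * ⁅c, b⁆⁻¹ * a⁻¹) * ((a * (c * b * c⁻¹)) * (a⁻¹ * b⁻¹)) by
          simp only [commutatorElement_def]; group, h1,
        show c * b * c⁻¹ * a * (a⁻¹ * b⁻¹) = ⁅c, b⁆ by
          simp only [commutatorElement_def]; group]
      exact mul_mem (conj_mem_centralizer (layer_le_normalizer_component hM (hKE ha))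
        (inv_mem (hdisp b hb))) (hdisp b hb)
    exact mem_centralizer_K hK hKE hM hKM (mem_normalizer_of_cj hcn) hdisp
  have hfixed : ∀ p, p ∈ layer G → s p = p → ∀ a ∈ K, ⁅a, p⁆ ∈ centralizer (L : Set G) := by
    intro p hpE hp a ha
    obtain ⟨c, hcL, hcs, hcp⟩ := exists_fixed_in_component h hL hLi hpE hp
    rw [show ⁅a, p⁆ = ⁅a, c⁆ * (c * ⁅a, c⁻¹ * p⁆ * c⁻¹) by
        simp only [commutatorElement_def]; group,
      commutatorElement_eq_one_iff_mul_comm.2 (mem_centralizer_iff.1 (hcK c hcL hcs) a ha),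
      one_mul]
    exact conj_mem_centralizer (le_normalizer hcL)
      (comm_mem_centralizer (layer_le_normalizer_component hL (hKE ha)) hcp).2
  by_cases hKi : Inv s K
  · -- `s` acts fixed-point-freely on `K / Z(K)`
    haveI hZn : (center ↥K).Normal := inferInstance
    have hZi : Inv hKi.aut (center ↥K) := by
      intro z hz
      rw [mem_center_iff] at hz ⊢
      intro g
      obtain ⟨g, rfl⟩ := hKi.aut.surjective g
      rw [← map_mul, ← map_mul, hz g]
    have hq := (h.sub hKi).quot hZi
    haveI hnil : Group.IsNilpotent (↥K ⧸ center ↥K) :=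
      FixedPointFreeThompson.isNilpotent hZi.qAut h.prime hq.pow_eq fun x hx => by
        obtain ⟨⟨p, hp⟩, hpfix, rfl⟩ := (h.sub hKi).exists_fixed_mk hZi hx
        have hps : s p = p := congrArg Subtype.val hpfix
        have hpK : p ∈ centralizer (K : Set G) :=
          mem_centralizer_K hK hKE hL hKL (le_normalizer hp) fun b hb => by
            rw [← commutatorElement_inv]
            exact inv_mem (hfixed p (hKE hp) hps b hb)
        rw [QuotientGroup.eq_one_iff, mem_center_iff]
        exact fun g => Subtype.ext (mem_centralizer_iff.1 hpK g g.2)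
    haveI : Group.IsNilpotent ↥K :=
      Subgroup.isNilpotent_of_ker_le_center (QuotientGroup.mk' (center ↥K))
        (by rw [QuotientGroup.ker_mk'])
    exact quasisimple_not_solvable hK inferInstance
  · refine not_comm_le hK hKE hL hKL fun a ha b hb => ?_
    have hndvd : ∀ {i}, 0 < i → i < r → ¬ r ∣ i := fun h0 hlt hd =>
      absurd (Nat.le_of_dvd h0 hd) (not_le.2 hlt)
    have hcomm : ∀ x ∈ K, ∀ i, 0 < i → i < r →
        (s ^ i) b * x = x * (s ^ i) b := fun x hx i h0 hlt =>
      (hs i (pow_moves h hK hKE hKs hs hc hKi (hndvd h0 hlt)) x hx _ ⟨b, hb, rfl⟩).symm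
    obtain ⟨q, hq, hfix⟩ := exists_fixed_mul h.prime.pos h.pow_eq (l := b)
      (layer G ⊓ centralizer (K : Set G))
      (fun i h0 hlt => mem_inf.2 ⟨(inv_of_map_eq (layer_map_equiv s)).pow i b (hKE hb),
        mem_centralizer_iff.2 fun x hx => (hcomm x hx i h0 hlt).symm⟩)
      (fun w hw => mem_centralizer_iff.1 (mem_inf.1 hw).2 b hb)
    have := hfixed (b * q) (mul_mem (hKE hb) (mem_inf.1 hq).1) hfix a ha
    rwa [show ⁅a, b * q⁆ = ⁅a, b⁆ * (b * ⁅a, q⁆ * b⁻¹) by
        simp only [commutatorElement_def]; group,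
      commutatorElement_eq_one_iff_mul_comm.2 (mem_centralizer_iff.1 (mem_inf.1 hq).2 a ha),
      mul_one, mul_inv_cancel, mul_one] at this

/-- The dichotomy inside the layer. -/
theorem component_or_le_invariant :
    IsComponent K ∨ ∃ L, IsComponent L ∧ Inv s L ∧ K ≤ L := by
  by_cases hmoved : ∃ L, IsComponent L ∧ ¬ K ≤ centralizer (L : Set G) ∧ ¬ Inv s L
  · obtain ⟨L, hL, hKL, hLs⟩ := hmoved
    exact Or.inl (component_of_moved h hK hKE hKs hs hc hL hKL hLs)
  push_neg at hmoved
  have hex : ∃ L : Subgroup G, IsComponent L ∧ ¬ K ≤ centralizer (L : Set G) := by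
    by_contra hno
    push_neg at hno
    apply quasisimple_not_commutative hK
    refine le_centralizer_iff_isMulCommutative.1 (le_centralizer_iff.1 ?_)
    exact hKE.trans (layer_le_iff.2 fun M hM => le_centralizer_iff.1 (hno M hM))
  obtain ⟨L, hL, hKL⟩ := hex
  have hLi := hmoved L hL hKL
  refine Or.inr ⟨L, hL, hLi, ?_⟩
  have hoth : ∀ M : Subgroup G, IsComponent M → M ≠ L → K ≤ centralizer (M : Set G) := fun M hM hne => by
    by_contra e
    exact hne (unique_invariant h hK hKE hKs hs hc hL hM hKL e hLi).symm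
  have hdec : ∀ a ∈ K, ∃ l ∈ L, ∃ n ∈ layer G, l * n = a ∧
      ∀ x ∈ layer G, x * n = n * x := by
    intro a ha
    have hE : a ∈ L ⊔ centralizer (L : Set G) := by
      refine (layer_le_iff.2 fun M hM => ?_) (hKE ha)
      by_cases e : M = L
      · exact e.le.trans le_sup_left
      · exact (commutator_eq_bot_iff_le_centralizer.1
          (components_commute hM hL e)).trans le_sup_right
    rw [← SetLike.mem_coe,
      coe_mul_of_right_le_normalizer_left L _ (centralizer_le_normalizer _)] at hE
    obtain ⟨l, hl, n, hn, hln⟩ := hE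
    simp only at hln
    have hnE : n ∈ layer G := by
      rw [show n = l⁻¹ * a by rw [← hln]; group]
      exact mul_mem (inv_mem (component_le_layer hL hl)) (hKE ha)
    refine ⟨l, hl, n, hnE, hln, fun x hx => ?_⟩
    have : layer G ≤ centralizer ({n} : Set G) := by
      refine layer_le_iff.2 fun M hM m hm => mem_centralizer_singleton_iff.2 ?_
      by_cases e : M = L
      · exact mem_centralizer_iff.1 hn m (e ▸ hm)
      · rw [show n = l⁻¹ * a by rw [← hln]; group]
        exact mem_centralizer_iff.1 (mul_mem (inv_mem (commutator_eq_bot_iff_le_centralizer.1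
          (components_commute hL hM (Ne.symm e)) hl)) (hoth M hM e ha)) m hm
    exact mem_centralizer_singleton_iff.1 (this hx)
  conv_lhs => rw [← quasisimple_commutator_eq hK]
  refine commutator_le.2 fun a ha b hb => ?_
  obtain ⟨l, hl, n, hnE, rfl, hn⟩ := hdec a ha
  obtain ⟨m, hm, o, hoE, rfl, ho⟩ := hdec b hb
  have hlE := component_le_layer hL hl
  have hmE := component_le_layer hL hm
  have key : ⁅l * n, m * o⁆ = ⁅l, m⁆ := by
    calc ⁅l * n, m * o⁆ = l * (n * m) * o * n⁻¹ * l⁻¹ * o⁻¹ * m⁻¹ := by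
          simp only [commutatorElement_def]; group
      _ = l * m * (n * o) * n⁻¹ * l⁻¹ * o⁻¹ * m⁻¹ := by rw [← hn m hmE]; group
      _ = l * m * o * (l⁻¹ * o⁻¹) * m⁻¹ := by rw [← hn o hoE]; group
      _ = l * m * l⁻¹ * (l * o * l⁻¹) * o⁻¹ * m⁻¹ := by group
      _ = l * m * l⁻¹ * (o * l * l⁻¹) * o⁻¹ * m⁻¹ := by rw [ho l hlE]
      _ = ⁅l, m⁆ := by simp only [commutatorElement_def]; group
  rw [key, commutatorElement_def]
  exact mul_mem (mul_mem (mul_mem hl hm) (inv_mem hl)) (inv_mem hm)

end automorphism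

end Cfsg.Agent.LocalTrichotomy
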