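import Cfsg.Agent.Lib.LocalTrichotomy.Core

/-!
Flavell's trichotomy for a quasisimple subgroup commuting with its distinct `R C_G(R)`-conjugates,
from the statement that `E(H) ≤ E(G)` for `R C_G(R)`-invariant `H = [H, R]`.
-/

set_option autoImplicit false

namespace Cfsg.Agent.LocalTrichotomy

open Subgroup Cfsg.Agent.CoprimeHHS Cfsg.Agent.Components
open scoped commutatorElement

variable {X : Type*} [Group X]

theorem cj_cj (g h : X) (K : Subgroup X) : cj g (cj h K) = cj (g * h) K := by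
  rw [cj, cj, cj, Subgroup.map_map, map_mul]
  rfl

theorem commutator_cj_eq_bot {S K : Subgroup X}
    (hcomm : ∀ g ∈ S, cj g K ≠ K → ⁅K, cj g K⁆ = ⊥) {g h : X} (hg : g ∈ S) (hh : h ∈ S)
    (hne : cj g K ≠ cj h K) : ⁅cj g K, cj h K⁆ = ⊥ := by
  have e : cj h K = cj g (cj (g⁻¹ * h) K) := by rw [cj_cj, mul_inv_cancel_left]
  rw [e] at hne ⊢
  rw [cj, cj, ← map_commutator, hcomm _ (mul_mem (inv_mem hg) hh) fun e' => hne (by rw [e']),
    Subgroup.map_bot]

/-- The join of the conjugates of `K` under `S`. -/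
def conjJoin (S K : Subgroup X) : Subgroup X := ⨆ g : S, cj (g : X) K

theorem le_conjJoin (S K : Subgroup X) : K ≤ conjJoin S K := by
  refine le_trans ?_ (le_iSup (fun g : S => cj (g : X) K) 1)
  intro x hx
  exact ⟨x, hx, by simp⟩

theorem conjJoin_le {S K G : Subgroup X} (hKG : K ≤ G) (hS : S ≤ normalizer (G : Set X)) :
    conjJoin S K ≤ G := iSup_le fun g => by
  rintro _ ⟨x, hx, rfl⟩
  exact (mem_normalizer_iff.1 (hS g.2) x).1 (hKG hx)

theorem le_normalizer_conjJoin (S K : Subgroup X) :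
    S ≤ normalizer ((conjJoin S K : Subgroup X) : Set X) := by
  intro g hg
  have key : ∀ g ∈ S, ∀ x ∈ conjJoin S K, g * x * g⁻¹ ∈ conjJoin S K := by
    intro g hg x hx
    have h1 : g * x * g⁻¹ ∈ cj g (conjJoin S K) := mem_cj hx
    rw [conjJoin, cj, Subgroup.map_iSup] at h1
    refine (iSup_le (fun h : S => ?_) : (⨆ h : S, (cj (h : X) K).map (MulAut.conj g).toMonoidHom) ≤
      ⨆ h : S, cj (h : X) K) h1
    show cj g (cj (h : X) K) ≤ _
    rw [cj_cj]
    exact le_iSup (fun k : S => cj (k : X) K) ⟨g * h, mul_mem hg h.2⟩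
  refine mem_normalizer_iff.2 fun x => ⟨key g hg x, fun hx => ?_⟩
  simpa [mul_assoc] using key g⁻¹ (inv_mem hg) _ hx

theorem conjJoin_le_normalizer {S K : Subgroup X}
    (hcomm : ∀ g ∈ S, cj g K ≠ K → ⁅K, cj g K⁆ = ⊥) :
    conjJoin S K ≤ normalizer (K : Set X) := iSup_le fun g => by
  by_cases e : cj (g : X) K = K
  · exact e.le.trans le_normalizer
  · exact normalizes_of_commute (by rw [commutator_comm]; exact hcomm g g.2 e)

variable [Finite X]

theorem isComponent_of_conjJoin {C K : Subgroup X} (hKC : K ≤ C) (hKq : IsQuasisimple ↥K)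
    (hcomm : ∀ g ∈ C, cj g K ≠ K → ⁅K, cj g K⁆ = ⊥) : IsComponent (K.subgroupOf C) := by
  refine ⟨IsSubnormal.step _ ((conjJoin C K).subgroupOf C) ?_ ?_ ?_,
    (quasisimple_congr (subgroupOfEquivOfLe hKC)).2 hKq⟩
  · exact fun x hx => mem_subgroupOf.2 (le_conjJoin C K (mem_subgroupOf.1 hx))
  · exact ((normal_subgroupOf_iff_le_normalizer (conjJoin_le hKC le_normalizer)).2
      (le_normalizer_conjJoin C K)).isSubnormal
  · refine ⟨fun n hn g => ?_⟩
    rw [mem_subgroupOf] at hn ⊢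
    exact mem_subgroupOf.2 ((mem_normalizer_iff.1
      (conjJoin_le_normalizer hcomm (mem_subgroupOf.1 g.2)) _).1 (mem_subgroupOf.1 hn))

theorem component_conjJoin {S K : Subgroup X} (hKq : IsQuasisimple ↥K)
    (hcomm : ∀ g ∈ S, cj g K ≠ K → ⁅K, cj g K⁆ = ⊥) :
    IsComponent (K.subgroupOf (conjJoin S K)) :=
  ⟨((normal_subgroupOf_iff_le_normalizer (le_conjJoin S K)).2
    (conjJoin_le_normalizer hcomm)).isSubnormal,
    (quasisimple_congr (subgroupOfEquivOfLe (le_conjJoin S K))).2 hKq⟩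

theorem trichotomy (G R : Subgroup X) (r : ℕ) [Fact r.Prime] (hR : Nat.card ↥R = r)
    (hcop : (Nat.card ↥G).Coprime r) (hnorm : R ≤ Subgroup.normalizer (G : Set X))
    (h1933 : ∀ H : Subgroup X, H ≤ G →
      R ⊔ (G ⊓ Subgroup.centralizer (R : Set X)) ≤ Subgroup.normalizer (H : Set X) → ⁅H, R⁆ = H →
      (Cfsg.layer ↥H).map H.subtype ≤ (Cfsg.layer ↥G).map G.subtype)
    (K : Subgroup X) (hKG : K ≤ G) (hKq : Cfsg.IsQuasisimple ↥K)
    (hcomm : ∀ g ∈ R ⊔ (G ⊓ Subgroup.centralizer (R : Set X)),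
      K.map (MulAut.conj g).toMonoidHom ≠ K → ⁅K, K.map (MulAut.conj g).toMonoidHom⁆ = ⊥) :
    (K ≤ G ⊓ Subgroup.centralizer (R : Set X) ∧
        Cfsg.IsComponent (K.subgroupOf (G ⊓ Subgroup.centralizer (R : Set X)))) ∨
      Cfsg.IsComponent (K.subgroupOf G) ∨
        ∃ L : Subgroup X, L ≤ G ∧ Cfsg.IsComponent (L.subgroupOf G) ∧
          (∀ a ∈ R, L.map (MulAut.conj a).toMonoidHom = L) ∧ K ≤ L := by
  set C := G ⊓ Subgroup.centralizer (R : Set X) with hC
  set S := R ⊔ C with hS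
  by_cases hKR : K ≤ centralizer (R : Set X)
  · exact Or.inl ⟨le_inf hKG hKR, isComponent_of_conjJoin (le_inf hKG hKR) hKq
      fun g hg => hcomm g (mem_sup_right hg)⟩
  obtain ⟨ρ, hρR, hρ1, hRρ⟩ : ∃ ρ ∈ R, ρ ^ r = 1 ∧ R = zpowers ρ := by
    haveI : IsCyclic ↥R := isCyclic_of_prime_card hR
    obtain ⟨g, hg⟩ := IsCyclic.exists_generator (α := ↥R)
    refine ⟨g, g.2, ?_, le_antisymm (fun x hx => ?_) (zpowers_le.2 g.2)⟩
    · have := pow_card_eq_one' (x := g)
      rw [hR] at this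
      exact congrArg Subtype.val this
    · obtain ⟨n, hn⟩ := Subgroup.mem_zpowers_iff.1 (hg ⟨x, hx⟩)
      exact ⟨n, congrArg Subtype.val hn⟩
  have hRC : R ≤ centralizer (R : Set X) := by
    rw [hRρ]
    intro x hx
    rw [mem_centralizer_iff]
    intro y hy
    obtain ⟨i, rfl⟩ := Subgroup.mem_zpowers_iff.1 hx
    obtain ⟨j, rfl⟩ := Subgroup.mem_zpowers_iff.1 hy
    rw [← zpow_add, ← zpow_add, add_comm]
  have hSR : S ≤ centralizer (R : Set X) := sup_le hRC inf_le_right
  have hSG : S ≤ normalizer (G : Set X) := sup_le hnorm (inf_le_left.trans le_normalizer)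
  set H := conjJoin S K with hH
  have hHG : H ≤ G := conjJoin_le hKG hSG
  have hSH : S ≤ normalizer (H : Set X) := le_normalizer_conjJoin S K
  have hT : ⁅H, R⁆ ≤ H := commutator_le_of_le_normalizer (le_sup_left.trans hSH)
  have hKT : K ≤ ⁅H, R⁆ := by
    by_contra hno
    have hN : ((⁅H, R⁆).subgroupOf K).Normal := ⟨fun n hn g => mem_subgroupOf.2
      ((mem_normalizer_iff.1 ((normalizer_commutator_ge_left H R) (le_conjJoin S K g.2)) _).1
        (mem_subgroupOf.1 hn))⟩
    haveI := hN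
    have hcen : ∀ z ∈ K, z ∈ ⁅H, R⁆ → z ∈ centralizer (K : Set X) := by
      intro z hz hzT
      rcases quasisimple_normal hKq ((⁅H, R⁆).subgroupOf K) with e | e
      · exact absurd (subgroupOf_eq_top.1 e) hno
      · rw [mem_centralizer_iff]
        intro b hb
        exact congrArg Subtype.val (mem_center_iff.1
          (e (show (⟨z, hz⟩ : K) ∈ (⁅H, R⁆).subgroupOf K from hzT)) ⟨b, hb⟩)
    have hdisp : ∀ a ∈ K, ⁅ρ, a⁆ ∈ ⁅H, R⁆ := fun a ha => by
      rw [← commutatorElement_inv]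
      exact inv_mem (commutator_mem_commutator (le_conjJoin S K ha) hρR)
    by_cases e : cj ρ K = K
    · apply hKR
      have hn := mem_normalizer_of_cj e
      have hρK := mem_centralizer_of_perfect (quasisimple_commutator_eq hKq) hn fun a ha =>
        hcen _ (by
          rw [commutatorElement_def]
          exact mul_mem ((mem_normalizer_iff.1 hn a).1 ha) (inv_mem ha)) (hdisp a ha)
      rw [hRρ, le_centralizer_iff, zpowers_le]
      exact hρK
    · refine hno ((quasisimple_commutator_eq hKq).symm.le.trans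
        (commutator_le.2 fun a ha b hb => ?_))
      have h1 : a * (ρ * b * ρ⁻¹) = ρ * b * ρ⁻¹ * a :=
        mem_centralizer_iff.1 (commutator_eq_bot_iff_le_centralizer.1
          (commutator_comm K (cj ρ K) ▸ hcomm ρ (mem_sup_left hρR) e) (mem_cj hb)) a ha
      rw [show ⁅a, b⁆ = (a * ⁅ρ, b⁆⁻¹ * a⁻¹) * ((a * (ρ * b * ρ⁻¹)) * (a⁻¹ * b⁻¹)) by
          simp only [commutatorElement_def]; group, h1,
        show ρ * b * ρ⁻¹ * a * (a⁻¹ * b⁻¹) = ⁅ρ, b⁆ by
          simp only [commutatorElement_def]; group]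
      exact mul_mem ((mem_normalizer_iff.1 (normalizer_commutator_ge_left H R
        (le_conjJoin S K ha)) _).1 (inv_mem (hdisp b hb))) (hdisp b hb)
  have hHR : ⁅H, R⁆ = H := by
    refine le_antisymm hT (iSup_le fun g => ?_)
    rintro _ ⟨x, hx, rfl⟩
    have hgn : (g : X) ∈ normalizer ((⁅H, R⁆ : Subgroup X) : Set X) := by
      have hgC : (g : X) ∈ normalizer (R : Set X) := centralizer_le_normalizer _ (hSR g.2)
      have key : ∀ c : X, c ∈ normalizer (H : Set X) → c ∈ normalizer (R : Set X) →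
          ∀ y ∈ ⁅H, R⁆, c * y * c⁻¹ ∈ ⁅H, R⁆ := by
        intro c hcH hcR y hy
        have hm : c * y * c⁻¹ ∈ cj c ⁅H, R⁆ := mem_cj hy
        rw [cj, map_commutator] at hm
        refine commutator_mono ?_ ?_ hm
        · rintro _ ⟨z, hz, rfl⟩; exact (mem_normalizer_iff.1 hcH z).1 hz
        · rintro _ ⟨z, hz, rfl⟩; exact (mem_normalizer_iff.1 hcR z).1 hz
      refine mem_normalizer_iff.2 fun y => ⟨key _ (hSH g.2) hgC y, fun hy => ?_⟩
      simpa [mul_assoc] using key _ (inv_mem (hSH g.2)) (inv_mem hgC) _ hy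
    exact (mem_normalizer_iff.1 hgn x).1 (hKT hx)
  have hKE : K.subgroupOf G ≤ layer ↥G := by
    intro x hx
    have h1 : (x : X) ∈ (layer ↥H).map H.subtype :=
      ⟨⟨x, le_conjJoin S K (mem_subgroupOf.1 hx)⟩,
        component_le_layer (component_conjJoin hKq hcomm) hx, rfl⟩
    obtain ⟨y, hy, hyx⟩ := h1933 H hHG hSH hHR h1
    rwa [← Subtype.ext hyx]
  have hGi : Inv (MulAut.conj ρ) G := fun x hx => (mem_normalizer_iff.1 (hnorm hρR) x).1 hx
  set s := hGi.aut with hs
  have hcopS : Cop r s := by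
    refine ⟨Fact.out, MulEquiv.ext fun x => Subtype.ext ?_, fun hd => ?_⟩
    · rw [Inv.aut_pow_apply, ← map_pow, hρ1, map_one]; rfl
    · exact (Fact.out : r.Prime).ne_one (Nat.eq_one_of_dvd_coprimes hcop hd dvd_rfl)
  have hval : ∀ x : ↥G, (s x : X) = ρ * x * ρ⁻¹ := fun x => rfl
  have hKq' : IsQuasisimple ↥(K.subgroupOf G) :=
    (quasisimple_congr (subgroupOfEquivOfLe hKG)).2 hKq
  have hKfix : ¬ K.subgroupOf G ≤ fixed s := fun hle => hKR (by
    rw [hRρ, le_centralizer_iff, zpowers_le, mem_centralizer_iff]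
    intro a ha
    have := congrArg Subtype.val (hle (show (⟨a, hKG ha⟩ : ↥G) ∈ K.subgroupOf G from ha))
    rw [hval] at this
    exact (mul_inv_eq_iff_eq_mul.1 this).symm)
  -- transfer of the commuting hypothesis
  have htrans : ∀ (e : MulAut ↥G) (g : X), g ∈ S → (∀ x : ↥G, (e x : X) = g * x * g⁻¹) →
      (K.subgroupOf G).map e.toMonoidHom ≠ K.subgroupOf G →
      ∀ a ∈ K.subgroupOf G, ∀ b ∈ (K.subgroupOf G).map e.toMonoidHom, a * b = b * a := by
    intro e g hg heg hne a ha b hb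
    have hgK : cj g K ≠ K := fun h' => hne (by
      ext x
      constructor
      · rintro ⟨y, hy, rfl⟩
        rw [mem_subgroupOf]
        show (e y : X) ∈ K
        rw [heg, ← h']
        exact mem_cj hy
      · intro hx
        obtain ⟨y, hy, hyx⟩ : (x : X) ∈ cj g K := h'.symm ▸ mem_subgroupOf.1 hx
        exact ⟨⟨y, hKG hy⟩, hy, Subtype.ext ((heg _).trans hyx)⟩)
    obtain ⟨y, hy, rfl⟩ := hb
    refine Subtype.ext ?_
    show (a : X) * (e y : X) = (e y : X) * a
    rw [heg]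
    exact mem_centralizer_iff.1 (commutator_eq_bot_iff_le_centralizer.1
      (commutator_comm K (cj g K) ▸ hcomm g hg hgK) (mem_cj (K := K) (mem_subgroupOf.1 hy))) a ha
  rcases component_or_le_invariant hcopS hKq' hKE hKfix
    (fun i => htrans (s ^ i) (ρ ^ i) (pow_mem (mem_sup_left hρR) i) fun x => by
      rw [Inv.aut_pow_apply, ← map_pow]; rfl)
    (fun c hcs => htrans (MulAut.conj c) (c : X) (mem_sup_right (mem_inf.2 ⟨c.2, by
      rw [hRρ]
      refine mem_centralizer_iff.2 fun y hy => ?_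
      obtain ⟨i, rfl⟩ := Subgroup.mem_zpowers_iff.1 hy
      have h1 := congrArg Subtype.val hcs
      rw [hval] at h1
      exact (Commute.zpow_left (mul_inv_eq_iff_eq_mul.1 h1) i)⟩)) fun x => rfl)
    with hcomp | ⟨L, hL, hLi, hKL⟩
  · exact Or.inr (Or.inl hcomp)
  refine Or.inr (Or.inr ⟨L.map G.subtype, map_subtype_le L, ?_, fun a ha => ?_, ?_⟩)
  · rw [subgroupOf, comap_map_eq_self_of_injective G.subtype_injective]
    exact hL
  · have hρL : cj ρ (L.map G.subtype) = L.map G.subtype := by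
      conv_rhs => rw [← hLi.map_eq]
      rw [cj, Subgroup.map_map, Subgroup.map_map]
      rfl
    rw [hRρ] at ha
    have h1 : a ∈ normalizer ((L.map G.subtype : Subgroup X) : Set X) :=
      zpowers_le.2 (mem_normalizer_of_cj hρL) ha
    ext x
    constructor
    · rintro ⟨y, hy, rfl⟩
      exact (mem_normalizer_iff.1 h1 y).1 hy
    · intro hx
      refine ⟨a⁻¹ * x * a, ?_, by simp [mul_assoc]⟩
      exact (mem_normalizer_iff''.1 h1 x).1 hx
  · intro x hx
    exact ⟨⟨x, hKG hx⟩, hKL (show (⟨x, hKG hx⟩ : ↥G) ∈ K.subgroupOf G from hx), rfl⟩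

end Cfsg.Agent.LocalTrichotomy
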